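import Groth.Agent.AmpleLib.NormDesc
import Groth.Agent.TFCurvLib.PicSurj
import Groth.Agent.S10963
import Groth.Prelude.Def_Fitting
import Mathlib.AlgebraicGeometry.Morphisms.QuasiFinite

/-! # The norm of an invertible module along a finite morphism, and ampleness -/

set_option autoImplicit false
set_option linter.style.haveILetI false

universe u

open CategoryTheory CategoryTheory.Limits AlgebraicGeometry Opposite TopologicalSpace

noncomputable section

namespace Groth.Agent.AmpleNorm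

open Groth.Agent.QCoh Groth.Agent.Props.GenLocus Groth.Agent.Props.GenTensor Groth.Agent.Props.GenProd
open Groth.Agent.Props.GenPull Groth.Agent.AmpleLib

variable {X X' : Scheme.{u}}

/-- Multiplicative norms on a covering downward closed family of opens, detecting units. -/
structure Fam (g : X' ⟶ X) where
  /-- the small opens -/
  P : X.Opens → Prop
  mono : ∀ {V V' : X.Opens}, V' ≤ V → P V → P V'
  cov : ∀ x : X, ∃ V : X.Opens, x ∈ V ∧ P V
  /-- the norms -/
  N : ∀ V : X.Opens, Γ(X', g ⁻¹ᵁ V) →* Γ(X, V)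
  N_res : ∀ {V V' : X.Opens} (h : V' ≤ V), P V → ∀ a : Γ(X', g ⁻¹ᵁ V),
    rres h (N V a) = N V' (rres (g.preimage_mono h) a)
  isUnit_of : ∀ {V : X.Opens}, P V → ∀ a : Γ(X', g ⁻¹ᵁ V), IsUnit (N V a) → IsUnit a

variable {g : X' ⟶ X}

/-- An invertible module has frames near every fibre of a finite morphism. -/
theorem exists_frame [IsFinite g] {L : X'.Modules} (hL : PicF.IsInvertible L) (F : Fam g) (x : X) :
    ∃ (W : X.Opens) (e : Γ(L, g ⁻¹ᵁ W)), x ∈ W ∧ F.P W ∧ IsGen L (g ⁻¹ᵁ W) e := by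
  obtain ⟨_, ⟨U, hU, rfl⟩, hxU, -⟩ :=
    X.isBasis_affineOpens.exists_subset_of_mem_open (Set.mem_univ x) isOpen_univ
  haveI : DiscreteTopology (g ⁻¹' {x} : Set X') :=
    isDiscrete_iff_discreteTopology.1 (g.isDiscrete_preimage_singleton x)
  obtain ⟨G, e, hG, he⟩ := TFCurvLib.exists_isGen_of_finite hL (hU.preimage g)
    (g.finite_preimage_singleton x) (fun p hp => (show g p ∈ U from (show g p = x from hp) ▸ hxU))
    (fun p hp q hq h => (congrArg Subtype.val ((subtype_specializes_iff (x := ⟨q, hq⟩) (y := ⟨p, hp⟩)).2 h).eq).symm)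
  obtain ⟨V, hxV, hV⟩ := F.cov x
  let O : X.Opens := ⟨(g '' (G : Set X')ᶜ)ᶜ, (g.isClosedMap _ G.2.isClosed_compl).isOpen_compl⟩
  have hle : g ⁻¹ᵁ (O ⊓ V) ≤ G := fun z hz => by
    by_contra h
    exact hz.1 ⟨z, h, rfl⟩
  exact ⟨O ⊓ V, res L hle e, ⟨fun ⟨z, hz, hzx⟩ => hz (hG hzx), hxV⟩, F.mono inf_le_right hV, he.restrict hle⟩

/-- The norm module of an invertible module, with its ampleness. -/
theorem exists_normModule [IsFinite g] [Surjective g] (F : Fam g) {L : X'.Modules} (hL : PicF.IsInvertible L) :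
    ∃ M : X.Modules, PicF.IsInvertible M ∧
      ∀ O : X.Opens, IsCompact (O : Set X) → AmpleOn L (g ⁻¹ᵁ O) → AmpleOn M O := by
  classical
  choose W e hxW hPW he using exists_frame hL F
  have ha : ∀ i j, ∃ a : Γ(X', g ⁻¹ᵁ (W i ⊓ W j)), IsUnit a ∧
      res L (g.preimage_mono inf_le_left) (e i) = a • res L (g.preimage_mono inf_le_right) (e j) := fun i j => by
    have h1 := (he i).restrict (g.preimage_mono (inf_le_left : W i ⊓ W j ≤ W i))
    have h2 := (he j).restrict (g.preimage_mono (inf_le_right : W i ⊓ W j ≤ W j))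
    obtain ⟨a, ha, -⟩ := h2.exists_eq le_rfl (res L (g.preimage_mono inf_le_left) (e i))
    obtain ⟨b, hb, -⟩ := h1.exists_eq le_rfl (res L (g.preimage_mono inf_le_right) (e j))
    rw [res_self] at ha hb
    refine ⟨a, IsUnit.of_mul_eq_one b (h1.injective le_rfl ?_), ha⟩
    rw [res_self, mul_smul, one_smul, ← hb]
    exact ha.symm
  choose a hau ha using ha
  have har : ∀ (i j : X) {T : X.Opens} (h : T ≤ W i ⊓ W j),
      res L (g.preimage_mono (h.trans inf_le_left)) (e i) =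
      rres (g.preimage_mono h) (a i j) • res L (g.preimage_mono (h.trans inf_le_right)) (e j) := fun i j T h => by
    have h1 := congrArg (res L (g.preimage_mono h)) (ha i j)
    rw [res_res, res_smul, res_res] at h1
    exact h1
  have hP2 : ∀ i j, F.P (W i ⊓ W j) := fun i j => F.mono inf_le_left (hPW i)
  have hcov : iSup W = ⊤ := top_unique fun x _ => Opens.mem_iSup.2 ⟨x, hxW x⟩
  let η : ∀ i j, (Γ(X, W i ⊓ W j))ˣ := fun i j => ((hau i j).map (F.N (W i ⊓ W j))).unit
  obtain ⟨M, s, hM, hs, hsrel⟩ := Groth.Agent.S10963.result X W hcov η (fun i j k => by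
    show rres _ (F.N _ _) = rres _ (F.N _ _) * rres _ (F.N _ _)
    rw [F.N_res _ (hP2 _ _), F.N_res _ (hP2 _ _), F.N_res _ (hP2 _ _), ← map_mul]
    congr 1
    refine (he k).injective (g.preimage_mono (inf_le_right : W i ⊓ W j ⊓ W k ≤ W k)) ?_
    rw [mul_smul, ← har j k (inf_le_inf_right (W k) inf_le_right), ← har i j inf_le_left,
      ← har i k (inf_le_inf_right (W k) inf_le_left)])
  have hsgen : ∀ i, IsGen M (W i) (s i) := fun i V h => hs i V h
  refine ⟨M, hM, fun O hc h => ⟨hc, fun x hx => ?_⟩⟩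
  obtain ⟨U, hU, hxU, hUO⟩ := exists_isAffineOpen_mem_and_subset (X := X) (x := x) (U := O) hx
  obtain ⟨n, σ, hEσ, hσU⟩ := exists_superset_on hL h (E := g ⁻¹' {x})
    (g.finite_preimage_singleton x) (fun y hy => (show g y ∈ O from (show g y = x from hy) ▸ hx))
    (U := g ⁻¹ᵁ U) (fun y hy => (show g y ∈ U from (show g y = x from hy) ▸ hxU))
  have hW'O : ∀ i, g ⁻¹ᵁ (W i ⊓ O) ≤ g ⁻¹ᵁ O := fun i => g.preimage_mono inf_le_right
  have he' : ∀ i, IsGen L (g ⁻¹ᵁ (W i ⊓ O)) (res L (g.preimage_mono inf_le_left) (e i)) :=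
    fun i => (he i).restrict (g.preimage_mono inf_le_left)
  have hs' : ∀ i, IsGen M (W i ⊓ O) (res M inf_le_left (s i)) := fun i => (hsgen i).restrict inf_le_left
  have hP' : ∀ i, F.P (W i ⊓ O) := fun i => F.mono inf_le_left (hPW i)
  let c : ∀ i, Γ(X, W i ⊓ O) := fun i => F.N (W i ⊓ O) (co (n + 1) σ (hW'O i) (he' i))
  obtain ⟨ρ, hρ⟩ := exists_glue (CohB1.tensorPow M (n + 1)) (U := fun i => W i ⊓ O) (V := O)
    (fun i => inf_le_right) (fun z hz => Opens.mem_iSup.mpr ⟨z, hxW z, hz⟩)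
    (fun i => c i • pw M (res M inf_le_left (s i)) (n + 1)) fun i j => by
      set V := W i ⊓ O ⊓ (W j ⊓ O)
      have hV : V ≤ W i ⊓ W j := le_inf (inf_le_left.trans inf_le_left) (inf_le_right.trans inf_le_left)
      have hh : res L (g.preimage_mono (inf_le_left : V ≤ W i ⊓ O))
            (res L (g.preimage_mono (inf_le_left : W i ⊓ O ≤ W i)) (e i)) =
          rres (g.preimage_mono hV) (a i j) • res L (g.preimage_mono (inf_le_right : V ≤ W j ⊓ O))
            (res L (g.preimage_mono (inf_le_left : W j ⊓ O ≤ W j)) (e j)) := by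
        rw [res_res, res_res]; exact har i j hV
      have h2 : rres (g.preimage_mono (inf_le_right : V ≤ W j ⊓ O)) (co (n + 1) σ (hW'O j) (he' j)) =
          rres (g.preimage_mono hV) (a i j) ^ (n + 1) *
            rres (g.preimage_mono (inf_le_left : V ≤ W i ⊓ O)) (co (n + 1) σ (hW'O i) (he' i)) := by
        rw [co_res, co_res]
        exact Props.GenExt.co_of_eq_smul _ _ _ _ hh
      have h4 : rres (inf_le_right : V ≤ W j ⊓ O) (c j) =
          F.N V (rres (g.preimage_mono hV) (a i j)) ^ (n + 1) * rres (inf_le_left : V ≤ W i ⊓ O) (c i) := by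
        simp only [c]
        rw [F.N_res _ (hP' _), F.N_res _ (hP' _), h2, map_mul, map_pow]
      have hM' : res M (inf_le_left : V ≤ W i ⊓ O) (res M (inf_le_left : W i ⊓ O ≤ W i) (s i)) =
          F.N V (rres (g.preimage_mono hV) (a i j)) •
            res M (inf_le_right : V ≤ W j ⊓ O) (res M (inf_le_left : W j ⊓ O ≤ W j) (s j)) := by
        rw [res_res, res_res]
        have h1 := congrArg (res M hV) (hsrel i j)
        rw [res_res, res_smul, res_res] at h1
        rw [h1, ← F.N_res hV (hP2 i j)]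
        rfl
      rw [res_smul, res_smul, res_pw, res_pw, hM', pw_smul, smul_smul, h4]
      exact congrArg (· • _) (mul_comm _ _)
  have hlocρ : ∀ i, locus ρ ⊓ (W i ⊓ O) = X.basicOpen (c i) := fun i =>
    locus_inf inf_le_right (isGen_pw (hs' i) (n + 1)) ρ (hρ i)
  have hlocσ : ∀ i, locus σ ⊓ g ⁻¹ᵁ (W i ⊓ O) = X'.basicOpen (co (n + 1) σ (hW'O i) (he' i)) :=
    fun i => locus_inf_eq _ _ σ
  have hle : locus ρ ≤ U := by
    intro z hz
    have hzi : z ∈ W z ⊓ O := ⟨hxW z, locus_le ρ hz⟩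
    have hz' : z ∈ X.basicOpen (c z) := hlocρ z ▸ ⟨hz, hzi⟩
    set V := X.basicOpen (c z)
    have hu : IsUnit (rres (X.basicOpen_le (c z)) (c z)) := RingedSpace.isUnit_res_basicOpen _ _
    simp only [c] at hu
    rw [F.N_res _ (hP' z)] at hu
    have hu' := F.isUnit_of (F.mono (X.basicOpen_le (c z)) (hP' z)) _ hu
    obtain ⟨y, hy⟩ := g.surjective z
    have hyb := X'.basicOpen_of_isUnit hu'
    rw [Scheme.basicOpen_res, inf_eq_left] at hyb
    have hy2 : y ∈ X'.basicOpen (co (n + 1) σ (hW'O z) (he' z)) := hyb (show g y ∈ _ from hy.symm ▸ hz')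
    rw [← hlocσ z] at hy2
    exact hy ▸ hσU hy2.1
  have hxρ : x ∈ locus ρ := by
    have hclosed : IsClosed (g '' ((locus σ : Set X')ᶜ)) := g.isClosedMap _ (locus σ).2.isClosed_compl
    let V : X.Opens := ⟨((W x ⊓ O : X.Opens) : Set X) \ g '' ((locus σ : Set X')ᶜ), (W x ⊓ O).2.sdiff hclosed⟩
    have hxV : x ∈ V := ⟨⟨hxW x, hx⟩, fun ⟨y, hy, hyx⟩ => hy (hEσ hyx)⟩
    have hVW : V ≤ W x ⊓ O := Set.sdiff_subset
    have hVσ : g ⁻¹ᵁ V ≤ X'.basicOpen (co (n + 1) σ (hW'O x) (he' x)) := by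
      rw [← hlocσ x]
      intro y hy
      exact ⟨not_not.mp fun hn => hy.2 ⟨y, hn, rfl⟩, hy.1⟩
    have hu1 := (RingedSpace.isUnit_res_basicOpen X'.toRingedSpace
      (co (n + 1) σ (hW'O x) (he' x))).map (rres hVσ).hom
    have hu2 : IsUnit (rres (g.preimage_mono hVW) (co (n + 1) σ (hW'O x) (he' x))) :=
      (rres_rres (X'.basicOpen_le (co (n + 1) σ (hW'O x) (he' x))) hVσ (co (n + 1) σ (hW'O x) (he' x))) ▸ hu1
    have hu3 : IsUnit (rres hVW (c x)) := by
      simp only [c]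
      rw [F.N_res _ (hP' x)]
      exact hu2.map (F.N V)
    have h5 := X.basicOpen_of_isUnit hu3
    rw [Scheme.basicOpen_res, inf_eq_left] at h5
    have h4 : x ∈ X.basicOpen (c x) := h5 hxV
    rw [← hlocρ x] at h4
    exact h4.1
  exact ⟨n, ρ, hxρ, isAffineOpen_locus_of_le hM ρ hU hUO hle⟩

/-- The family of a norm of degree `d`. -/
def Fam.ofNorm {d : ℕ} (N : Nrm.NormOfDegree g d) : Fam g where
  P _ := True
  mono _ _ := trivial
  cov x := ⟨⊤, trivial, trivial⟩
  N := N.norm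
  N_res h _ a := N.norm_res (homOfLE h) a
  isUnit_of {V} _ a ha := by
    refine X'.toRingedSpace.isUnit_of_isUnit_germ _ a fun y hy => ?_
    by_contra h
    exact (IsLocalRing.mem_maximalIdeal _).1
      (N.norm_mem V a y hy ((IsLocalRing.mem_maximalIdeal _).2 h)) (ha.map (X.presheaf.germ V _ hy).hom)

/-- The family of the determinant norm of a finite locally free morphism. -/
def Fam.ofLocFree (hfree : FlatMod.IsFinLocFree (pushO g)) : Fam g where
  P V := ∃ (W : X.Opens) (d : ℕ) (b : Fin d → Γ(pushO g, W)), LFFrame.IsFrame (pushO g) W b ∧ V ≤ W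
  mono := fun h ⟨W, d, b, hb, hV⟩ => ⟨W, d, b, hb, h.trans hV⟩
  cov x := by
    obtain ⟨W, d, b, hx, hb⟩ := LFFrame.exists_isFrame_of_isFinLocFree hfree x
    exact ⟨W, hx, W, d, b, hb, le_rfl⟩
  N := nrm g
  N_res := fun h ⟨W, d, b, hb, hV⟩ a => rres_nrm hb hV h a
  isUnit_of := fun ⟨W, d, b, hb, hV⟩ a ha => isUnit_of_isUnit_nrm hb hV a ha

end Groth.Agent.AmpleNorm
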